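import Cfsg.Agent.Blocks.StabilizerCorr
import Cfsg.Agent.Blocks.InvariantCover
import Cfsg.Agent.Blocks.BrauerFeit
import Cfsg.Agent.Blocks.FullDefect

/-!
# Characters of height zero with large inertia groups

A block of largest defect over an invariant block of a normal subgroup has a character of height
zero; by Fong's formula for its defect, the constituents of its restriction have height zero and
inertia groups of index prime to `p`.
-/

set_option autoImplicit false
set_option linter.style.haveILetI false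
set_option linter.unusedSectionVars false

namespace CfsgLib.StableHeightZero

open Cfsg Finset CfsgLib.Block CfsgLib.Block.Chr CfsgLib.Char

universe u

variable {G : Type u} [Group G] [Fintype G] {N : Subgroup G} [hN : N.Normal] [Fintype N]
  {M : Ideal AlgInt} [M.IsPrime] {p : ℕ}

/-- The invariant case. -/
theorem exists_of_invariant (hM : IsPModular p M) {b : Set (IrrCharacter N)} (hb : IsPBlock M b)
    (hinv : orbitUnion (G := G) b = b) :
    ∃ θ ∈ b, blockHeight p b (θ : N → ℂ) = 0 ∧ ¬ p ∣ (inertia (θ : N → ℂ)).index := by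
  classical
  haveI : Fact p.Prime := ⟨hM.1⟩
  letI := irrFintype (G := G)
  obtain ⟨θ₀, hθ₀⟩ := exists_mem_block hb
  obtain ⟨χ₀, hχ₀, hc₀⟩ : ∃ χ : IrrCharacter G, χ ∈ (Set.univ : Set (IrrCharacter G)) ∧
      Covers (blockOf M (χ : G → ℂ)) b := by
    obtain ⟨y, hy⟩ := exists_isDefectClass hb
    obtain ⟨B, hB, hcov, -⟩ := exists_covering_coeff (G := G) hb (y := (y : G)) (by
      intro h
      have := congrFun (resFun_coverFun (G := G) b) y
      simp only [resFun] at this
      rw [this] at h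
      rw [hinv] at h
      exact hy.2.1 h)
    obtain ⟨χ, hχ⟩ := exists_mem_block hB
    exact ⟨χ, trivial, by rwa [← eq_blockOf_of_mem hB hχ]⟩
  obtain ⟨χm, hχm, hmax⟩ := exists_max_image
    (univ.filter fun χ : IrrCharacter G => Covers (blockOf M (χ : G → ℂ)) b)
    (fun χ => blockDefect p (blockOf M (χ : G → ℂ))) ⟨χ₀, mem_filter.2 ⟨mem_univ _, hc₀⟩⟩
  set B := blockOf M (χm : G → ℂ) with hBdef
  have hB : IsPBlock M B := isPBlock_blockOf χm
  obtain ⟨P, hP⟩ := exists_defectGroup (p := p) hB hM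
  obtain ⟨-, -, hd⟩ := fong_defect hM hb hinv hB (mem_filter.1 hχm).2 (fun B' hB' hcov' => by
    obtain ⟨ψ, hψ⟩ := exists_mem_block hB'
    have hB'eq := eq_blockOf_of_mem hB' hψ
    rw [hB'eq]
    exact hmax ψ (mem_filter.2 ⟨mem_univ _, by rwa [← hB'eq]⟩)) hP
  obtain ⟨χ, hχ, h0⟩ := exists_height_zero hM hB
  obtain ⟨ψ, hψ, hc⟩ := exists_constituent_restrict (N := N) χ.2
  obtain ⟨χ₁, hχ₁, θ₁, hθ₁, hc₁⟩ := (mem_filter.1 hχm).2
  have hmem : (⟨ψ, hψ⟩ : IrrCharacter N) ∈ b :=
    hinv ▸ mem_orbitUnion_of_covering hB hb hχ₁ hχ hθ₁ hc₁ (ψ := ⟨ψ, hψ⟩) hc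
  obtain ⟨e, he⟩ := IsCharacter.exists_classInner_eq_natCast
    (IsCharacter.restrict (isCharacter_irr χ) N) hψ
  have hdeg : charDegree (χ : G → ℂ) = e * (inertia ψ).index * charDegree ψ := by
    apply Nat.cast_injective (R := ℂ)
    rw [← (irr_one χ).1, Nat.cast_mul, Nat.cast_mul, ← (irr_one ⟨ψ, hψ⟩).1, ← he]
    exact degree_eq_mul χ.2 hψ hc
  have he0 : e ≠ 0 := fun h => (irr_one χ).2.ne' (by rw [hdeg, h, zero_mul, zero_mul])
  have hi0 : (inertia ψ).index ≠ 0 := Subgroup.index_ne_zero_of_finite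
  have hψ0 : charDegree ψ ≠ 0 := ((irr_one ⟨ψ, hψ⟩).2).ne'
  have h1 := factorization_degree hM hB hχ
  rw [h0, hdeg, Nat.factorization_mul (mul_ne_zero he0 hi0) hψ0, Finsupp.add_apply,
    Nat.factorization_mul he0 hi0, Finsupp.add_apply, hd] at h1
  have h2 := factorization_degree hM hb hmem
  have h3 := blockDefect_le (p := p) b
  have h4 : (Nat.card G).factorization p =
      (Nat.card N).factorization p + N.index.factorization p := by
    rw [← N.card_mul_index, Nat.factorization_mul Nat.card_pos.ne'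
      Subgroup.index_ne_zero_of_finite, Finsupp.add_apply]
  simp only at h2
  refine ⟨⟨ψ, hψ⟩, hmem, by simp only; omega, fun h => ?_⟩
  have := hM.1.factorization_pos_of_dvd hi0 h
  omega

/-- The general case, through the stabilizer of the block. -/
theorem exists_of_stab (hM : IsPModular p M) {b : Set (IrrCharacter N)} (hb : IsPBlock M b)
    {T : Subgroup G} (hS : IsStab b T) (hNT : N ≤ T) :
    ∃ θ ∈ b, blockHeight p b (θ : N → ℂ) = 0 ∧
      ¬ p ∣ (inertia (θ : N → ℂ)).relIndex T := by
  classical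
  haveI : Fact p.Prime := ⟨hM.1⟩
  haveI := Fintype.ofFinite T
  haveI := Fintype.ofFinite (N.subgroupOf T)
  set e := Subgroup.subgroupOfEquivOfLe hNT
  have hβ : IsPBlock M (irrComp e '' b) := isPBlock_image e hb
  have hinv : orbitUnion (G := T) (irrComp e '' b) = irrComp e '' b := by
    ext φ
    refine ⟨?_, self_mem_orbitUnion⟩
    rintro ⟨t, _, ⟨η, hη, rfl⟩, rfl⟩
    exact ⟨conjIrr (t : G) η, (hS _ η hη).1 t.2, rfl⟩
  obtain ⟨_, ⟨θ, hθ, rfl⟩, hh, hidx⟩ := exists_of_invariant hM hβ hinv
  refine ⟨θ, hθ, ?_, ?_⟩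
  · have h1 := factorization_degree hM hb hθ
    have h2 := factorization_degree hM hβ (χ := irrComp e θ) ⟨θ, hθ, rfl⟩
    have h3 : charDegree (irrComp e θ : N.subgroupOf T → ℂ) = charDegree (θ : N → ℂ) := by
      rw [charDegree, charDegree, irrComp_coe]
      simp
    rw [h3, hh, blockDefect_image, Nat.card_congr e.toEquiv] at h2
    omega
  · have hI : inertia (irrComp e θ : N.subgroupOf T → ℂ) =
        (inertia (θ : N → ℂ)).subgroupOf T := by
      ext t
      rw [Subgroup.mem_subgroupOf, mem_inertia, mem_inertia, funext_iff, funext_iff]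
      constructor
      · intro h n
        exact h (e.symm n)
      · intro h n
        exact h (e n)
    rwa [hI] at hidx

end CfsgLib.StableHeightZero
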